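import Groth.Agent.S1607
import Groth.Agent.S0385
import Groth.Agent.AmpleDimOne.Top

/-!
# Quasi-finite morphisms over a base of dimension at most one which are finite on fibres are affine
-/

set_option autoImplicit false
set_option backward.isDefEq.respectTransparency false
set_option backward.isDefEq.respectTransparency.types false
set_option linter.style.haveILetI false
set_option maxHeartbeats 1000000
set_option synthInstance.maxHeartbeats 400000
universe u

open CategoryTheory CategoryTheory.Limits AlgebraicGeometry TopologicalSpace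

namespace Groth.Agent.AffDim1

/-- A noetherian sober space is covered by the closures of finitely many points. -/
theorem exists_finite_generic (α : Type u) [TopologicalSpace α] [NoetherianSpace α] [QuasiSober α] :
    ∃ G : Set α, G.Finite ∧ ∀ y : α, ∃ g ∈ G, g ⤳ y := by
  choose gen hgen using fun Z : irreducibleComponents α =>
    QuasiSober.sober Z.2.1 (isClosed_of_mem_irreducibleComponents Z.1 Z.2)
  haveI : Finite (irreducibleComponents α) := NoetherianSpace.finite_irreducibleComponents.to_subtype
  refine ⟨Set.range gen, Set.finite_range gen, fun y =>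
    ⟨_, ⟨⟨irreducibleComponent y, irreducibleComponent_mem_irreducibleComponents y⟩, rfl⟩,
      (hgen _).specializes mem_irreducibleComponent⟩⟩

/-- A property of a composite with a monomorphism passes to the first factor. -/
theorem of_comp_mono (P : MorphismProperty Scheme.{u}) [P.IsStableUnderBaseChange] {X Y Z : Scheme.{u}}
    (f : X ⟶ Y) (j : Y ⟶ Z) [Mono j] (h : P (f ≫ j)) : P f := by
  have sq : IsPullback (𝟙 X) f (f ≫ j) j := IsPullback.mk' (Category.id_comp _)
    (fun T a b e _ => by simpa using e)
    (fun T a b e => ⟨a, Category.comp_id _, (cancel_mono j).1 (by rw [Category.assoc, e])⟩)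
  exact MorphismProperty.of_isPullback sq h

/-- A dense open subscheme over an affine base of dimension at most one whose traces on the fibres are closed is
affine over the ambient scheme. -/
theorem isAffineHom_openImmersion {S Z X : Scheme.{u}} [IsAffine S] [IsNoetherian S]
    (hdim : topologicalKrullDim S ≤ 1) [IsNoetherian Z] (π : Z ⟶ S) (j : X ⟶ Z) [IsOpenImmersion j]
    [IsDominant j]
    (hcl : ∀ s : S, closure (Set.range j ∩ π ⁻¹' {s}) ∩ π ⁻¹' {s} ⊆ Set.range j) :
    IsAffineHom j := by
  haveI : IsNoetherian X := by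
    haveI : IsLocallyNoetherian X := isLocallyNoetherian_of_isOpenImmersion j
    haveI : QuasiCompact j := inferInstance
    haveI : CompactSpace X := QuasiCompact.compactSpace_of_compactSpace j
    exact {}
  obtain ⟨GX, hGX, hGXc⟩ := exists_finite_generic X
  have hdense : ∀ z : Z, ∃ x : X, j x ⤳ z := by
    intro z
    have h1 : Set.range j ⊆ ⋃ g ∈ GX, closure {j g} := by
      rintro _ ⟨x, rfl⟩
      obtain ⟨g, hg, hgx⟩ := hGXc x
      exact Set.mem_biUnion hg ((hgx.map j.continuous).mem_closure)
    have h2 := (closure_minimal h1 (hGX.isClosed_biUnion fun g _ => isClosed_closure))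
      (j.denseRange z)
    obtain ⟨g, -, hg⟩ := Set.mem_iUnion₂.1 h2
    exact ⟨g, specializes_iff_mem_closure.2 hg⟩
  let U : Set Z := Set.range j
  have hUo : IsOpen U := j.isOpenEmbedding.isOpen_range
  let C : Set Z := Uᶜ
  have hC : IsClosed C := hUo.isClosed_compl
  have hcpt : ∀ z ∈ C, ∀ t : S, π z ⤳ t → t = π z := by
    intro z hz t ht
    obtain ⟨x, hx⟩ := hdense z
    by_cases he : π (j x) = π z
    · exact absurd (hcl (π z) ⟨(specializes_iff_mem_closure.1 hx) |> closure_mono (by
        rintro _ rfl; exact ⟨⟨x, rfl⟩, he⟩), rfl⟩) hz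
    · rcases AmpleDimOne.eq_or_eq_of_specializes hdim (hx.map π.continuous) ht with h | h
      · exact absurd h he
      · exact h.symm
  haveI : QuasiSober C := hC.isClosedEmbedding_subtypeVal.quasiSober
  obtain ⟨G, hG, hGc⟩ := exists_finite_generic C
  let F : Set S := π '' C
  have hFfin : F.Finite := by
    refine (hG.image (fun c : C => π c.1)).subset ?_
    rintro _ ⟨z, hz, rfl⟩
    obtain ⟨g, hg, hgz⟩ := hGc ⟨z, hz⟩
    exact ⟨g, hg, (hcpt g.1 g.2 _ ((hgz.map continuous_subtype_val).map π.continuous)).symm⟩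
  have hFpt : ∀ s ∈ F, IsClosed ({s} : Set S) := by
    rintro _ ⟨z, hz, rfl⟩
    exact closure_subset_iff_isClosed.1 fun t ht => hcpt z hz t (specializes_iff_mem_closure.2 ht)
  have hF : IsClosed F := by
    rw [← Set.biUnion_of_singleton F]
    exact hFfin.isClosed_biUnion hFpt
  have hXF : IsClosed (U ∩ π ⁻¹' F) := by
    rw [show U ∩ π ⁻¹' F = ⋃ s ∈ F, U ∩ π ⁻¹' {s} by ext z; simp]
    refine hFfin.isClosed_biUnion fun s hs => closure_subset_iff_isClosed.1 fun z hz => ?_
    have hz' : z ∈ π ⁻¹' {s} := closure_minimal Set.inter_subset_right ((hFpt s hs).preimage π.continuous) hz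
    exact ⟨hcl s ⟨hz, hz'⟩, hz'⟩
  refine isAffineHom_of_forall_exists_isAffineOpen j fun z => ?_
  by_cases hz : z ∈ U
  · obtain ⟨A, hA, hzA, hAU⟩ := exists_isAffineOpen_mem_and_subset (U := j.opensRange) hz
    exact ⟨A, hzA, hA, hA.preimage_of_isOpenImmersion j hAU⟩
  · obtain ⟨A, hA, hzA, hAW⟩ := exists_isAffineOpen_mem_and_subset (x := z)
      (U := ⟨(U ∩ π ⁻¹' F)ᶜ, hXF.isOpen_compl⟩) (fun h => hz h.1)
    refine ⟨A, hzA, hA, ?_⟩
    let V : S.Opens := ⟨Fᶜ, hF.isOpen_compl⟩
    have hV : IsAffineOpen V := by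
      refine Groth.Agent.S1607.result S (fun s => ⟨inferInstance, AmpleDimOne.ringKrullDim_stalk_le hdim s⟩) V ?_
      exact NoetherianSpace.isCompact _
    haveI : IsAffine A.toScheme := hA
    haveI : IsAffineHom (A.ι ≫ π) := inferInstance
    have h1 : IsAffineOpen (A.ι ''ᵁ ((A.ι ≫ π) ⁻¹ᵁ V)) :=
      (hV.preimage (A.ι ≫ π)).image_of_isOpenImmersion A.ι
    have h2 : A.ι ''ᵁ ((A.ι ≫ π) ⁻¹ᵁ V) = A ⊓ j.opensRange := by
      ext w
      constructor
      · rintro ⟨a, ha, rfl⟩
        refine ⟨a.2, ?_⟩
        by_contra h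
        exact ha ⟨_, h, rfl⟩
      · rintro ⟨hwA, hwU⟩
        refine ⟨⟨w, hwA⟩, fun h => hAW hwA ⟨hwU, h⟩, rfl⟩
    rw [h2] at h1
    have h3 : j ⁻¹ᵁ A = j ⁻¹ᵁ (A ⊓ j.opensRange) := by
      ext x
      exact ⟨fun h => ⟨h, x, rfl⟩, fun h => h.1⟩
    rw [h3]
    exact h1.preimage_of_isOpenImmersion j inf_le_right

/-- A quasi-finite separated morphism to an affine scheme over an affine base of dimension at most one which is
finite on the fibres over that base has affine source. -/
theorem isAffine_of_fibres {S Y X : Scheme.{u}} [IsAffine S] [IsNoetherian S] (hdim : topologicalKrullDim S ≤ 1)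
    [IsAffine Y] (p : Y ⟶ S) [LocallyOfFiniteType p] (u : X ⟶ Y) [LocallyOfFiniteType u] [QuasiCompact u]
    [LocallyQuasiFinite u] [IsSeparated u]
    (hfin : ∀ s : S, IsFinite (pullback.snd u (pullback.fst p (S.fromSpecResidueField s)))) : IsAffine X := by
  haveI : IsLocallyNoetherian Y := LocallyOfFiniteType.isLocallyNoetherian p
  haveI : IsNoetherian Y := {}
  obtain ⟨T, j', π', hj', hj'q, hπ', e'⟩ := Groth.Agent.S0385.result u
  haveI : IsLocallyNoetherian T := LocallyOfFiniteType.isLocallyNoetherian π'
  haveI : CompactSpace T := QuasiCompact.compactSpace_of_compactSpace π'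
  haveI : IsNoetherian T := {}
  let Z := j'.image
  let ι : Z ⟶ T := j'.imageι
  let j : X ⟶ Z := j'.toImage
  let π₀ : Z ⟶ Y := ι ≫ π'
  have hjι : j ≫ ι = j' := j'.toImage_imageι
  haveI : IsClosedImmersion ι := inferInstanceAs (IsClosedImmersion j'.imageι)
  haveI : IsLocallyNoetherian Z := LocallyOfFiniteType.isLocallyNoetherian ι
  haveI : CompactSpace Z := QuasiCompact.compactSpace_of_compactSpace ι
  haveI : IsNoetherian Z := {}
  haveI : IsDominant j := inferInstanceAs (IsDominant j'.toImage)
  haveI : IsOpenImmersion j := of_comp_mono @IsOpenImmersion j ι (by rw [hjι]; exact hj')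
  have e : j ≫ π₀ = u := by rw [← Category.assoc, hjι, e']
  haveI : IsFinite π₀ := inferInstance
  haveI : IsAffineHom j := by
    refine isAffineHom_openImmersion hdim (π₀ ≫ p) j fun s => ?_
    let c := pullback.fst p (S.fromSpecResidueField s)
    let Q := pullback π₀ c
    let q : Q ⟶ Z := pullback.fst π₀ c
    haveI : IsPreimmersion c := inferInstance
    haveI : IsPreimmersion q := inferInstance
    let φ := pullback.snd j q
    haveI : IsFinite φ := by
      haveI : IsFinite (φ ≫ pullback.snd π₀ c) := by
        have sq : IsPullback (pullback.fst j q) (φ ≫ pullback.snd π₀ c) u c := e ▸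
          (IsPullback.of_hasPullback j q).paste_vert (IsPullback.of_hasPullback π₀ c)
        rw [← sq.isoPullback_hom_snd]
        haveI := hfin s
        infer_instance
      exact IsFinite.of_comp φ (pullback.snd π₀ c)
    have hrq : Set.range q = (π₀ ≫ p) ⁻¹' {s} := by
      rw [Scheme.Pullback.range_fst, Scheme.Pullback.range_fst, Scheme.range_fromSpecResidueField]
      rfl
    have hclosed : IsClosed (q ⁻¹' Set.range j) := by
      rw [← Scheme.Pullback.range_snd]
      exact φ.isClosedMap.isClosed_range
    rintro z ⟨hz, hzs⟩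
    rw [← hrq] at hzs hz
    obtain ⟨w, rfl⟩ := hzs
    have hw : w ∈ closure (q ⁻¹' Set.range j) := by
      rw [q.isEmbedding.closure_eq_preimage_closure_image, Set.image_preimage_eq_inter_range]
      exact hz
    exact (hclosed.closure_eq.le hw :)
  haveI : IsAffineHom (j ≫ π₀) := inferInstance
  rw [e] at this
  exact isAffine_of_isAffineHom u

/-- **A quasi-finite separated morphism over a locally Noetherian base of dimension at most one which is finite on
the fibres is affine.** -/
theorem isAffineHom_of_fibres {S : Scheme.{u}} [IsLocallyNoetherian S] (hdim : topologicalKrullDim S ≤ 1)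
    {X Y : Over S} [LocallyOfFiniteType Y.hom] (f : X ⟶ Y) [LocallyOfFiniteType f.left] [QuasiCompact f.left]
    [LocallyQuasiFinite f.left] [IsSeparated f.left]
    (hfin : ∀ s : S, IsFinite ((Over.pullback (S.fromSpecResidueField s)).map f).left) : IsAffineHom f.left := by
  have hfin' : ∀ s : S, IsFinite (pullback.snd f.left (pullback.fst Y.hom (S.fromSpecResidueField s))) := by
    intro s
    let g := S.fromSpecResidueField s
    let φ := ((Over.pullback g).map f).left
    have sq : IsPullback (pullback.fst X.hom g) φ f.left (pullback.fst Y.hom g) := by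
      refine IsPullback.of_bot ?_ (pullback.lift_fst _ _ _).symm (IsPullback.of_hasPullback Y.hom g)
      rw [show φ ≫ pullback.snd Y.hom g = pullback.snd X.hom g from pullback.lift_snd _ _ _, Over.w f]
      exact IsPullback.of_hasPullback X.hom g
    rw [← sq.isoPullback_inv_snd]
    haveI : IsFinite φ := hfin s
    infer_instance
  refine isAffineHom_of_forall_exists_isAffineOpen f.left fun y => ?_
  obtain ⟨S0, hS0, hyS0, -⟩ := exists_isAffineOpen_mem_and_subset (x := Y.hom y) (U := (⊤ : S.Opens)) trivial
  obtain ⟨V, hV, hyV, hVle⟩ := exists_isAffineOpen_mem_and_subset (x := y) (U := Y.hom ⁻¹ᵁ S0) hyS0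
  refine ⟨V, hyV, hV, ?_⟩
  haveI : IsAffine S0.toScheme := hS0
  haveI : IsAffine V.toScheme := hV
  haveI : IsLocallyNoetherian S0.toScheme := isLocallyNoetherian_of_isOpenImmersion S0.ι
  haveI : IsNoetherian S0.toScheme := {}
  let p : V.toScheme ⟶ S0.toScheme := Y.hom.resLE S0 V hVle
  haveI : LocallyOfFiniteType (p ≫ S0.ι) := by rw [Scheme.Hom.resLE_comp_ι]; infer_instance
  haveI : LocallyOfFiniteType p := locallyOfFiniteType_of_comp p S0.ι
  refine isAffine_of_fibres (S0.ι.isOpenEmbedding.isInducing.topologicalKrullDim_le.trans hdim) p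
    (f.left ∣_ V) fun s₀ => ?_
  let g₀ := S0.toScheme.fromSpecResidueField s₀
  let g := S.fromSpecResidueField (S0.ι s₀)
  let h := Spec.map (S0.ι.residueFieldMap s₀)
  have hg : h ≫ g = g₀ ≫ S0.ι := Scheme.Hom.SpecMap_residueFieldMap_fromSpecResidueField _ _
  let k : pullback p g₀ ⟶ pullback Y.hom g :=
    pullback.lift (pullback.fst p g₀ ≫ V.ι) (pullback.snd p g₀ ≫ h) (by
      rw [Category.assoc, Category.assoc, hg, ← pullback.condition_assoc, Scheme.Hom.resLE_comp_ι])
  have sq := (IsPullback.of_hasPullback (f.left ∣_ V) (pullback.fst p g₀)).paste_horiz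
    (isPullback_morphismRestrict f.left V).flip
  have hk : k ≫ pullback.fst Y.hom g = pullback.fst p g₀ ≫ V.ι := pullback.lift_fst _ _ _
  rw [← hk] at sq
  let l : pullback (f.left ∣_ V) (pullback.fst p g₀) ⟶ pullback f.left (pullback.fst Y.hom g) :=
    pullback.lift _ _ (sq.w.trans (Category.assoc _ _ _).symm)
  have hl1 : l ≫ pullback.fst f.left (pullback.fst Y.hom g) =
      pullback.fst (f.left ∣_ V) (pullback.fst p g₀) ≫ (f.left ⁻¹ᵁ V).ι := pullback.lift_fst _ _ _
  have sq2 : IsPullback l (pullback.snd (f.left ∣_ V) (pullback.fst p g₀))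
      (pullback.snd f.left (pullback.fst Y.hom g)) k :=
    IsPullback.of_right (hl1.symm ▸ sq) (pullback.lift_snd _ _ _) (IsPullback.of_hasPullback _ _)
  exact MorphismProperty.of_isPullback sq2 (hfin' _)

end Groth.Agent.AffDim1
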